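import Cfsg.Agent.FrobSystem.Classify
import Mathlib.GroupTheory.Transfer

/-!
# Groups with a Frobenius system on the maximal solvable subgroups

Solvability of groups of odd order is a hypothesis.
-/

set_option autoImplicit false
set_option linter.unusedSectionVars false
set_option linter.style.haveILetI false

namespace CfsgLib.FrobSystem

open scoped Pointwise

variable {G : Type*} [Group G]

theorem solvable_sup {N H : Subgroup G} [N.Normal] (hN : Group.IsSolvable N) (hH : Group.IsSolvable H) :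
    Group.IsSolvable (N ⊔ H : Subgroup G) := by
  haveI := hN; haveI := hH
  let ψ : ↥(N ⊔ H) →* G ⧸ N := (QuotientGroup.mk' N).comp (N ⊔ H).subtype
  have hr : ψ.range ≤ H.map (QuotientGroup.mk' N) := by
    rintro _ ⟨⟨z, hz⟩, rfl⟩
    obtain ⟨n, hn, k, hk, rfl⟩ := Subgroup.mem_sup_of_normal_left.1 hz
    refine ⟨k, hk, ?_⟩
    show (k : G ⧸ N) = ((n * k : G) : G ⧸ N)
    rw [QuotientGroup.mk_mul, (QuotientGroup.eq_one_iff n).2 hn, one_mul]
  haveI : Group.IsSolvable (H.map (QuotientGroup.mk' N)) :=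
    Group.isSolvable_of_surjective ((QuotientGroup.mk' N).subgroupMap_surjective H)
  haveI : Group.IsSolvable ψ.range :=
    Group.isSolvable_of_isSolvable_injective (Subgroup.inclusion_injective hr)
  exact Group.isSolvable_of_ker_le_range (Subgroup.inclusion (le_sup_left : N ≤ N ⊔ H)) ψ.rangeRestrict
    fun z hz => by
      rw [MonoidHom.ker_rangeRestrict] at hz
      exact ⟨⟨(z : G), (QuotientGroup.eq_one_iff (z : G)).1 hz⟩, Subtype.ext rfl⟩

/-- The main dichotomy. -/
theorem main [Finite G] (hFT : ∀ H : Subgroup G, Odd (Nat.card H) → Group.IsSolvable H)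
    (hFT' : ∀ (H : Subgroup G) (N : Subgroup H) [N.Normal], Odd N.index → Group.IsSolvable (H ⧸ N))
    (F : Subgroup G → Subgroup G)
    (h : ∀ M : Subgroup G, (Group.IsSolvable M ∧ ∀ M' : Subgroup G, M < M' → ¬ Group.IsSolvable M') →
      F M ≤ M ∧ M ≤ Subgroup.normalizer (F M : Set G) ∧
      (∀ a ∈ M, a ∉ F M → ∀ x ∈ F M, x * a = a * x → x = 1) ∧
      (∀ g : G, g ∉ M → F M ⊓ (MulAut.conj g • F M) = ⊥) ∧
      (F M ≠ ⊥ ∨ IsMulCommutative M)) (hns : ¬ Group.IsSolvable G) :
    (∃ (K : Type) (_ : Field K) (_ : Fintype K), (∃ n : ℕ, 2 ≤ n ∧ Fintype.card K = 2 ^ n) ∧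
      Nonempty (G ≃* Matrix.SpecialLinearGroup (Fin 2) K)) ∨ Cfsg.Lie.IsoSuzuki G := by
  classical
  haveI : Fact (Nat.Prime 2) := ⟨Nat.prime_two⟩
  obtain ⟨T⟩ : Nonempty (Sylow 2 G) := inferInstance
  have hTs : Group.IsSolvable (T : Subgroup G) :=
    haveI := T.2.isNilpotent; inferInstance
  obtain ⟨M, hTM, hMmax⟩ := ({K : Subgroup G | Group.IsSolvable K}).toFinite.exists_le_maximal hTs
  have hmax : ∀ M' : Subgroup G, M < M' → ¬ Group.IsSolvable M' := fun M' hlt hs =>
    (hMmax.2 hs hlt.le).not_gt hlt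
  obtain ⟨hle, hnorm, hfrob, hti, hor⟩ := h M ⟨hMmax.1, hmax⟩
  have hMt : M ≠ ⊤ := fun e => hns <| by
    haveI : Group.IsSolvable (⊤ : Subgroup G) := e ▸ hMmax.1
    exact Group.isSolvable_of_surjective (f := (⊤ : Subgroup G).subtype)
      fun g => ⟨⟨g, Subgroup.mem_top g⟩, rfl⟩
  by_cases hF : F M = ⊥
  · exfalso
    have hcomm : IsMulCommutative M := hor.resolve_left fun hn => hn hF
    have hMN : M ≤ Subgroup.normalizer ((T : Subgroup G) : Set G) := fun m hm => by
      refine Subgroup.mem_normalizer_fintype (S := ((T : Subgroup G) : Set G)) fun x hx => ?_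
      have e : m * x = x * m := congrArg Subtype.val (hcomm.1.comm (⟨m, hm⟩ : M) ⟨x, hTM hx⟩)
      rw [e, mul_inv_cancel_right]; exact hx
    set N := Subgroup.normalizer ((T : Subgroup G) : Set G) with hN
    set T' : Subgroup N := (T : Subgroup G).subgroupOf N
    haveI : T'.Normal := Subgroup.normal_in_normalizer
    have hidx : Odd T'.index := by
      rw [← Nat.not_even_iff_odd, even_iff_two_dvd]
      exact (T.subtype Subgroup.le_normalizer).not_dvd_index
    haveI := hFT' N T' hidx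
    haveI := hTs
    haveI : Group.IsSolvable T' :=
      Group.isSolvable_of_isSolvable_injective (f := (Subgroup.subgroupOfEquivOfLe
        (Subgroup.le_normalizer : (T : Subgroup G) ≤ N)).toMonoidHom) (MulEquiv.injective _)
    have hNs : Group.IsSolvable N := Group.isSolvable_of_ker_le_range T'.subtype (QuotientGroup.mk' T')
      (by rw [QuotientGroup.ker_mk', Subgroup.range_subtype])
    have hMeq : M = N := eq_of_le_of_not_lt hMN fun hlt => hmax N hlt hNs
    have hc : N ≤ Subgroup.centralizer ((T : Subgroup G) : Set G) := fun n hn => by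
      rw [← hMeq] at hn
      exact Subgroup.mem_centralizer_iff.2 fun x hx =>
        congrArg Subtype.val (hcomm.1.comm (⟨x, hTM hx⟩ : M) ⟨n, hn⟩)
    have hK := MonoidHom.ker_transferSylow_isComplement' T hc
    set K := (MonoidHom.transferSylow T hc).ker
    have hKodd : Odd (Nat.card K) := by
      rw [← Nat.not_even_iff_odd, even_iff_two_dvd]
      have hi : (T : Subgroup G).index = Nat.card K := hK.index_eq_card
      exact hi ▸ T.not_dvd_index
    haveI := hFT K hKodd
    haveI : Group.IsSolvable (MonoidHom.transferSylow T hc).range :=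
      Group.isSolvable_of_isSolvable_injective (f := (MonoidHom.transferSylow T hc).range.subtype)
        Subtype.val_injective
    exact hns (Group.isSolvable_of_ker_le_range K.subtype (MonoidHom.transferSylow T hc).rangeRestrict
      (by rw [MonoidHom.ker_rangeRestrict, Subgroup.range_subtype]))
  · refine Sys.classify (M := M) (F := F M)
      ⟨hle, hnorm, hfrob, hti, hF, hMt, hFT, fun R hR hRs => ?_⟩ hTM
    haveI := hR
    have hRM : R ≤ M := by
      by_contra hn
      exact hmax (R ⊔ M) (right_lt_sup.2 hn) (solvable_sup hRs hMmax.1)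
    obtain ⟨g, -, hg⟩ := SetLike.exists_of_lt (lt_top_iff_ne_top.2 hMt)
    obtain ⟨x, hx, hx1⟩ := (Subgroup.bot_or_exists_ne_one (F M)).resolve_left hF
    have hint : ∀ z ∈ R, z ∈ F M → z = 1 := by
      intro z hzR hzF
      by_contra hz1
      have hzM : g * z * g⁻¹ ∈ M := hRM (hR.conj_mem z hzR g)
      have hzF' : g * z * g⁻¹ ∈ F M := by
        by_contra hout
        -- an element of `R ⊓ M` outside `F M` commutes with `z`
        have hc : (g * z * g⁻¹) * z * (g * z * g⁻¹)⁻¹ * z⁻¹ ∈ F M :=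
          mul_mem ((Subgroup.mem_normalizer_iff.1 (hnorm hzM) z).1 hzF) (inv_mem hzF)
        have hxc : ∀ y ∈ F M, y ∈ R → y * (g * z * g⁻¹) = (g * z * g⁻¹) * y → y = 1 :=
          fun y hy _ => hfrob _ hzM hout y hy
        have hcR : (g * z * g⁻¹) * z * (g * z * g⁻¹)⁻¹ * z⁻¹ ∈ R :=
          mul_mem (hR.conj_mem z hzR _) (inv_mem hzR)
        -- `R ⊓ F M` is normalised by `g R g⁻¹ = R`; the conjugate meets it trivially
        by_cases h1 : (g * z * g⁻¹) * z * (g * z * g⁻¹)⁻¹ * z⁻¹ = 1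
        · refine hz1 (hxc z hzF hzR ?_)
          have h2 := mul_inv_eq_iff_eq_mul.1 (mul_inv_eq_one.1 h1)
          exact h2.symm
        · have hmem : (g * z * g⁻¹) * z * (g * z * g⁻¹)⁻¹ * z⁻¹ ∈ MulAut.conj g • F M := by
            rw [Subgroup.mem_pointwise_smul_iff_inv_smul_mem, ← map_inv, MulAut.smul_def,
              MulAut.conj_apply]
            rw [show g⁻¹ * (g * z * g⁻¹ * z * (g * z * g⁻¹)⁻¹ * z⁻¹) * g⁻¹⁻¹ =
              z * ((g⁻¹ * z * g) * z⁻¹ * (g⁻¹ * z * g)⁻¹) by group]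
            have hgz : g⁻¹ * z * g ∈ M := hRM (by simpa using hR.conj_mem z hzR g⁻¹)
            exact mul_mem hzF ((Subgroup.mem_normalizer_iff.1 (hnorm hgz) _).1 (inv_mem hzF))
          exact h1 (Subgroup.mem_bot.1 ((hti g hg) ▸ Subgroup.mem_inf.2 ⟨hc, hmem⟩))
      have hmem : g * z * g⁻¹ ∈ F M ⊓ (MulAut.conj g • F M) :=
        Subgroup.mem_inf.2 ⟨hzF', Subgroup.smul_mem_pointwise_smul z (MulAut.conj g) (F M) hzF⟩
      rw [hti g hg, Subgroup.mem_bot, conj_eq_one_iff] at hmem
      exact hz1 hmem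
    rw [Subgroup.eq_bot_iff_forall]
    intro r hr
    by_contra hr1
    have hrF : r ∉ F M := fun e => hr1 (hint r hr e)
    refine hx1 (hfrob r (hRM hr) hrF x hx ?_)
    have h1 := hint (r * x * r⁻¹ * x⁻¹)
      (by rw [show r * x * r⁻¹ * x⁻¹ = r * (x * r⁻¹ * x⁻¹) by group]
          exact mul_mem hr (hR.conj_mem _ (inv_mem hr) x))
      (mul_mem ((Subgroup.mem_normalizer_iff.1 (hnorm (hRM hr)) x).1 hx) (inv_mem hx))
    exact (mul_inv_eq_iff_eq_mul.1 (mul_inv_eq_one.1 h1)).symm

end CfsgLib.FrobSystem
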